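import Groth.Agent.UnipOne.Ga
import Groth.Agent.UnipExt.Trigonal
import Groth.Agent.UnipExt.Main
import Groth.Agent.UnipComp.Max
import Groth.Agent.UnipComp.Powers
import Groth.Agent.ComodLib.PrimCriteria
import Mathlib.Algebra.MonoidAlgebra.NoZeroDivisors
import Mathlib.RingTheory.FiniteType

/-!
# Classification of connected one-dimensional groups
-/

universe u

open TensorProduct WithConv

namespace Groth.Agent.UnipOne

open Groth.Agent.ComodLib

variable {k : Type u} [Field k] [IsAlgClosed k] {A : Type u} [CommRing A] [HopfAlgebra k A]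
  [Algebra.FiniteType k A] [IsDomain A]

/-- An additive function with nonzero differential. -/
theorem exists_prim_not_sq : ∀ (N : ℕ) (t : A),
    Coalgebra.comul (R := k) t = t ⊗ₜ[k] (1 : A) + (1 : A) ⊗ₜ[k] t →
    t ∉ RingHom.ker (Bialgebra.counitAlgHom k A) ^ N →
    ∃ s : A, Coalgebra.comul (R := k) s = s ⊗ₜ[k] (1 : A) + (1 : A) ⊗ₜ[k] s ∧
      s ∉ RingHom.ker (Bialgebra.counitAlgHom k A) ^ 2 := by
  intro N
  induction N using Nat.strong_induction_on with
  | _ N ih =>
    intro t ht hN
    by_cases h2 : t ∈ RingHom.ker (Bialgebra.counitAlgHom k A) ^ 2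
    · have hN3 : 3 ≤ N := by
        by_contra h
        exact hN (Ideal.pow_le_pow_right (by omega) h2)
      obtain ⟨p, s, hp, -, hs, rfl⟩ := UnipExt.exists_root ht h2 hN
      refine ih (N - 1) (by omega) s hs fun h => hN ?_
      have h1 := Ideal.pow_mem_pow h p
      rw [← pow_mul] at h1
      exact Ideal.pow_le_pow_right (le_trans (show N ≤ (N - 1) * 2 by omega) (Nat.mul_le_mul le_rfl hp.two_le)) h1
    · exact ⟨t, ht, h2⟩

variable (hdim : ringKrullDim A ≤ 1)

include hdim in
/-- An additive function whose only zero is the origin. -/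
theorem exists_generator (hU : HopfRep.IsUnipotent k A) : ∀ (n : ℕ) (t : A)
    (ht : Coalgebra.comul (R := k) t = t ⊗ₜ[k] (1 : A) + (1 : A) ⊗ₜ[k] t),
    t ∉ RingHom.ker (Bialgebra.counitAlgHom k A) ^ 2 → (zeros ht : Set (WithConv (A →ₐ[k] k))).ncard < n →
    ∃ (s : A) (hs : Coalgebra.comul (R := k) s = s ⊗ₜ[k] (1 : A) + (1 : A) ⊗ₜ[k] s),
      s ∉ RingHom.ker (Bialgebra.counitAlgHom k A) ^ 2 ∧ zeros hs = ⊥ := by
  intro n
  induction n with
  | zero => intro t ht _ h; exact absurd h (Nat.not_lt_zero _)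
  | succ n ih =>
    intro t ht h2 hn
    by_cases hbot : zeros ht = ⊥
    · exact ⟨t, ht, h2, hbot⟩
    have ht0 : t ≠ 0 := fun h => h2 (h ▸ zero_mem _)
    have ht' := UnipCrit.isHopfIdeal_span_primitive (k := k) ht
    haveI := ht'.2.2
    have hred := UnipExt.isReduced_quotient ht'.1 (Or.inl h2)
    have hfin := finite_zeros ht ht0 hdim
    haveI : Finite (zeros ht) := hfin.to_subtype
    haveI : Nontrivial (zeros ht) := (Subgroup.nontrivial_iff_ne_bot _).mpr hbot
    letI : CommGroup (zeros ht) :=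
      { (inferInstance : Group (zeros ht)) with
        mul_comm := fun a b => Subtype.ext (zeros_central ht ht0 hdim b a.1) }
    obtain ⟨l, χ, hl, hχ⟩ := UnipMu.exists_surj_zmod (zeros ht)
    obtain ⟨p, hp, hpk, hlp⟩ : ∃ p : ℕ, p.Prime ∧ CharP k p ∧ l = p := by
      obtain ⟨p, hpk⟩ := CharP.exists k
      rcases CharP.char_is_prime_or_zero k p with hp | rfl
      · refine ⟨p, hp, hpk, ?_⟩
        obtain ⟨N, hN⟩ := UnipComp.Powers.pow_prime_pow_eq_one (R := k) p hU
        obtain ⟨z, hz⟩ := hχ (Multiplicative.ofAdd (1 : ZMod l))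
        have h1 : z ^ p ^ N = 1 := Subtype.ext (by simpa using hN z.1)
        have h3 := congrArg χ h1
        rw [map_pow χ, hz, map_one χ, ← ofAdd_nsmul, ofAdd_eq_one, nsmul_one, ZMod.natCast_eq_zero_iff] at h3
        exact (Nat.prime_dvd_prime_iff_eq hl hp).mp (hl.dvd_of_dvd_pow h3)
      · exfalso
        haveI := CharP.charP_to_charZero k
        obtain ⟨z, hz⟩ := exists_ne (1 : zeros ht)
        refine hz (Subtype.ext (UnipComp.Powers.eq_one_of_pow_eq_one hU (orderOf_pos z).ne' ?_))
        exact (SubmonoidClass.coe_pow z (orderOf z)).symm.trans (congrArg Subtype.val (pow_orderOf_eq_one z))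
    subst hlp
    haveI := Fact.mk hp
    obtain ⟨s, a, ha, hs0, hs, hst, z, hz⟩ := exists_additive ht ht0 hdim hred l χ hχ
    have hs2 : s ∉ RingHom.ker (Bialgebra.counitAlgHom k A) ^ 2 := fun h => h2 (by
      have e : t = a⁻¹ • (s ^ l - s) := by rw [hst, smul_smul, inv_mul_cancel₀ ha, one_smul]
      rw [e, Algebra.smul_def]
      exact Ideal.mul_mem_left _ _ (sub_mem (Ideal.pow_mem_of_mem _ h _ hp.pos) h))
    refine ih s hs hs2 (lt_of_lt_of_le (Set.ncard_lt_ncard ?_ hfin) (Nat.lt_succ_iff.mp hn))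
    refine Set.ssubset_iff_of_subset ?_ |>.mpr ⟨z.1, z.2, hz⟩
    intro x hx
    have h1 := congrArg x.ofConv hst
    rw [map_sub, map_pow, map_smul, show x.ofConv s = 0 from hx, zero_pow hp.ne_zero, sub_zero, smul_eq_mul] at h1
    exact (mul_eq_zero.mp h1.symm).resolve_left ha

include hdim in
/-- A connected one-dimensional unipotent group is `G_a`. -/
theorem nonempty_equiv_ga (hU : HopfRep.IsUnipotent k A) (hne : ¬ IsField A) :
    Nonempty (A ≃ₐc[k] SymmetricAlgebra k k) := by
  obtain ⟨b, hb⟩ : ∃ b : A, b ∉ Submodule.span k {(1 : A)} := by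
    by_contra hcon
    push Not at hcon
    refine hne (MulEquiv.isField (Field.toIsField k)
      ((RingEquiv.ofBijective (algebraMap k A) ⟨(algebraMap k A).injective, fun a => ?_⟩).symm.toMulEquiv))
    obtain ⟨c, hc⟩ := Submodule.mem_span_singleton.mp (hcon a)
    exact ⟨c, by rw [Algebra.algebraMap_eq_smul_one, hc]⟩
  obtain ⟨x, hx0, hx⟩ := UnipCrit.exists_primitive_of_isUnipotent hU hb
  haveI : IsNoetherianRing A := Algebra.FiniteType.isNoetherianRing k A
  obtain ⟨N, hN⟩ : ∃ N, x ∉ RingHom.ker (Bialgebra.counitAlgHom k A) ^ N := by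
    by_contra hcon
    push Not at hcon
    refine hx0 ?_
    have := (Submodule.mem_iInf _).mpr hcon
    rwa [Ideal.iInf_pow_eq_bot_of_isDomain _ (RingHom.ker_ne_top _), Ideal.mem_bot] at this
  obtain ⟨t, ht, ht2⟩ := exists_prim_not_sq N x hx hN
  obtain ⟨s, hs, hs2, hbot⟩ := exists_generator hdim hU _ t ht ht2 (Nat.lt_succ_self _)
  have hs0 : s ≠ 0 := fun h => hs2 (h ▸ zero_mem _)
  haveI := (UnipCrit.isHopfIdeal_span_primitive (k := k) hs).2.2
  have hred := UnipExt.isReduced_quotient (UnipCrit.isHopfIdeal_span_primitive (k := k) hs).1 (Or.inl hs2)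
  refine ⟨(BialgEquiv.ofBijective (toGa hs) ⟨toGa_injective hs hs0, fun a => ?_⟩).symm⟩
  obtain ⟨f, hf⟩ := exists_poly_of_invariant hs hs0 hred (a := a) fun y z => by
    have : z.1 = 1 := Subgroup.mem_bot.mp (hbot ▸ z.2)
    rw [this, mul_one]
  exact ⟨Polynomial.aeval (SymmetricAlgebra.ι k k 1) f, (toGa_aeval hs f).trans hf.symm⟩

omit [IsAlgClosed k] [Algebra.FiniteType k A] [IsDomain A] in
theorem not_isField_laurent : ¬ IsField (MonoidAlgebra k (Multiplicative ℤ)) := by
  intro h
  let x : MonoidAlgebra k (Multiplicative ℤ) := MonoidAlgebra.single (Multiplicative.ofAdd 1) 1 - 1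
  have hx : x ≠ 0 := by
    intro h0
    rw [sub_eq_zero, MonoidAlgebra.one_def, MonoidAlgebra.single_left_inj one_ne_zero] at h0
    exact one_ne_zero (α := ℤ) (congrArg Multiplicative.toAdd h0)
  obtain ⟨y, hy⟩ := h.mul_inv_cancel hx
  have h2 := congrArg (Bialgebra.counitAlgHom k (MonoidAlgebra k (Multiplicative ℤ))) hy
  rw [map_mul, map_one] at h2
  simp [x] at h2

/-- A commutative group with points in general position is diagonalisable or unipotent. -/
theorem isCocomm_of_commute (hcomm : ∀ x y : WithConv (A →ₐ[k] k), x * y = y * x) : Coalgebra.IsCocomm k A := by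
  refine ⟨LinearMap.ext fun a => ?_⟩
  rw [← sub_eq_zero]
  refine ext2 fun x y => ?_
  have e : ∀ v : A ⊗[k] A, ev2 x y (TensorProduct.comm k A A v) = ev2 y x v := fun v => by
    induction v using TensorProduct.induction_on with
    | zero => simp
    | tmul p q => simp [ev2_tmul, mul_comm]
    | add p q hp hq => simp only [map_add, hp, hq]
  rw [map_sub, LinearMap.comp_apply, LinearEquiv.coe_coe, e, ← convMul_eval, ← convMul_eval, hcomm, sub_self]

include hdim in
/-- A commutative one-dimensional group is unipotent or `G_m`. -/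
theorem unipotent_or_gm [Coalgebra.IsCocomm k A] :
    HopfRep.IsUnipotent k A ∨ Nonempty (A ≃ₐc[k] MonoidAlgebra k (Multiplicative ℤ)) := by
  classical
  have hT : HopfRep.IsTrigonalizable k A := PrimDiag.isTrigonalizable_of_isCocomm
  obtain ⟨D, _, _, ψ, J, _, hψ, hD, hJ, hU⟩ := UnipExt.trigonal_iff.mp hT
  obtain ⟨r, hr⟩ := UnipExt.exists_bialg_retraction hD ψ hψ J hJ hU
  have hrs : Function.Surjective r := fun d => ⟨ψ d, DFunLike.congr_fun hr d⟩
  haveI : Algebra.FiniteType k D := Algebra.FiniteType.of_surjective (r : A →ₐ[k] D) hrs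
  obtain ⟨M, _, ⟨e⟩⟩ := UnipComp.isDiag_of_span (Q := D) fun x => hD ▸ Submodule.mem_top
  haveI : Algebra.FiniteType k (MonoidAlgebra k M) :=
    Algebra.FiniteType.of_surjective (e : D →ₐ[k] MonoidAlgebra k M) e.surjective
  haveI : Monoid.FG M := (MonoidAlgebra.finiteType_iff_fg (R := k)).mp inferInstance
  haveI : Group.FG M := Group.fg_iff_monoid_fg.mpr inferInstance
  have htors : ∀ m : M, ∀ n : ℕ, n ≠ 0 → m ^ n = 1 → m = 1 := by
    intro m n hn hm
    let χ : A := ψ (e.symm (MonoidAlgebra.single m 1))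
    have hχ : χ ^ n = 1 := by
      simp only [χ]
      rw [← map_pow, ← map_pow, MonoidAlgebra.single_pow, hm, one_pow, ← MonoidAlgebra.one_def, map_one, map_one]
    obtain ⟨c, hc⟩ := mem_range_of_isIntegral (k := k) (a := χ) ⟨Polynomial.X ^ n - Polynomial.C 1,
      Polynomial.monic_X_pow_sub_C 1 hn, by simp [hχ]⟩
    have h1 : e.symm (MonoidAlgebra.single m 1) = algebraMap k D c :=
      hψ (hc.trans ((ψ : D →ₐ[k] A).commutes c).symm)
    have h2 := congrArg e h1
    rw [e.apply_symm_apply, show e (algebraMap k D c) = algebraMap k _ c from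
      (e : D →ₐ[k] MonoidAlgebra k M).commutes c] at h2
    have h3 := congrArg (fun z => z.coeff m) h2
    by_contra hm1
    simp [Ne.symm hm1, hm1] at h3
  obtain ⟨q, ι, _, p, hp, ex, ⟨F⟩⟩ := AddCommGroup.equiv_free_prod_directSum_zmod (Additive M)
  by_cases hq : q = 0
  · left
    subst hq
    have htriv : ∀ m : M, m = 1 := by
      intro m
      refine htors m (∏ i, p i ^ ex i) (Finset.prod_ne_zero_iff.mpr fun i _ => pow_ne_zero _ (hp i).ne_zero) ?_
      apply Additive.ofMul.injective
      rw [ofMul_pow, ofMul_one]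
      apply F.injective
      rw [map_nsmul, map_zero]
      refine Prod.ext (Subsingleton.elim _ _) ?_
      ext i
      show (∏ i, p i ^ ex i) • (F (Additive.ofMul m)).2 i = 0
      rw [nsmul_eq_mul, (ZMod.natCast_eq_zero_iff _ _).mpr (Finset.dvd_prod_of_mem _ (Finset.mem_univ i)), zero_mul]
    haveI : Subsingleton M := ⟨fun a b => (htriv a).trans (htriv b).symm⟩
    have hD1 : ∀ d : D, d = algebraMap k D (Coalgebra.counit (R := k) d) := by
      intro d
      obtain ⟨c, hc⟩ : ∃ c : k, d = algebraMap k D c := by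
        refine ⟨(e d).coeff 1, e.injective ?_⟩
        refine Eq.trans ?_ ((e : D →ₐ[k] MonoidAlgebra k M).commutes ((e d).coeff 1)).symm
        show e d = _
        ext m
        rw [Subsingleton.elim m 1]
        simp
      rw [hc, Bialgebra.counit_algebraMap]
    intro W _ _ cW _ _
    obtain ⟨χ, w, hχ, hw0, hw⟩ := UnipExt.exists_eigen_of_isTrigonalizable hT W
    have hJ0 : J = ⊥ := by
      rw [hJ, eq_bot_iff, Ideal.map_le_iff_le_comap]
      intro d hd
      rw [hD1 d, show Coalgebra.counit (R := k) d = 0 from hd]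
      simp
    have hχ1 : Ideal.Quotient.mk J χ = 1 :=
      UnipMu.groupLike_eq_one hU (UnipExt.isGroupLike_map (ψ := Bialgebra.Quotient.mkBialgHom (R := k) J) hχ)
    rw [← map_one (Ideal.Quotient.mk J), Ideal.Quotient.eq, hJ0, Ideal.mem_bot, sub_eq_zero] at hχ1
    refine (Submodule.ne_bot_iff _).mpr ⟨w, ?_, hw0⟩
    show HopfRep.Comod.coact (k := k) (A := A) w = w ⊗ₜ[k] 1
    rw [hw, hχ1]
  · right
    let i0 : Fin q := ⟨0, Nat.pos_of_ne_zero hq⟩
    let f : M →* Multiplicative ℤ := AddMonoidHom.toMultiplicativeRight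
      ((Finsupp.applyAddHom i0).comp ((AddMonoidHom.fst _ _).comp F.toAddMonoidHom))
    have hf : Function.Surjective f := fun y =>
      ⟨Additive.toMul (F.symm (Finsupp.single i0 y.toAdd, 0)), by simp [f]⟩
    let φ : A →ₐc[k] MonoidAlgebra k (Multiplicative ℤ) :=
      (MonoidAlgebra.mapDomainBialgHom (R := k) f).comp ((e : D →ₐc[k] MonoidAlgebra k M).comp r)
    have hmap : Function.Surjective (MonoidAlgebra.mapDomainBialgHom (R := k) f) := by
      intro x
      induction x using MonoidAlgebra.induction_linear with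
      | zero => exact ⟨0, map_zero _⟩
      | add a b ha hb =>
        obtain ⟨a, rfl⟩ := ha
        obtain ⟨b, rfl⟩ := hb
        exact ⟨a + b, map_add _ a b⟩
      | single m c =>
        obtain ⟨n, rfl⟩ := hf m
        exact ⟨MonoidAlgebra.single n c, by simp⟩
    have hφ : Function.Surjective φ := hmap.comp (e.surjective.comp hrs)
    haveI : IsDomain (MonoidAlgebra k (Multiplicative ℤ)) := NoZeroDivisors.to_isDomain _
    have hker : RingHom.ker (φ : A →+* MonoidAlgebra k (Multiplicative ℤ)) = ⊥ :=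
      ker_eq_bot hdim _ fun h => not_isField_laurent (k := k)
        (((RingEquiv.subringCongr (RingHom.range_eq_top.mpr hφ)).trans Subring.topEquiv).symm.toMulEquiv.isField h)
    exact ⟨BialgEquiv.ofBijective φ ⟨(RingHom.injective_iff_ker_eq_bot _).mpr hker, hφ⟩⟩

include hdim in
/-- The dichotomy for connected one-dimensional groups. -/
theorem unipotent_or_gm' :
    HopfRep.IsUnipotent k A ∨ Nonempty (A ≃ₐc[k] MonoidAlgebra k (Multiplicative ℤ)) := by
  by_cases h : ∃ g : WithConv (A →ₐ[k] k), RingHom.ker (conjPt g) = ⊥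
  · obtain ⟨g, hg⟩ := h
    exact Or.inl (isUnipotent_of_injective g hg)
  · push Not at h
    haveI := isCocomm_of_commute (k := k) (A := A) fun x y => central_of_not_injective hdim y (h y) x
    exact unipotent_or_gm hdim

end Groth.Agent.UnipOne
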