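import Mathlib.FieldTheory.IsAlgClosed.Basic
import Mathlib.Algebra.CharP.Lemmas
import Mathlib.Algebra.Polynomial.Eval.Degree
import Mathlib.RingTheory.Polynomial.Basic
import Mathlib.Algebra.Polynomial.Roots

/-!
# Artin–Schreier normal forms and additive polynomials
-/

universe u

open Polynomial

namespace Groth.Agent.UnipOne

variable {k : Type u} [Field k] [IsAlgClosed k] (p : ℕ) [Fact p.Prime] [CharP k p]

/-- Reduced: no monomial with exponent a positive multiple of `p`. -/
def ASReduced (f : k[X]) : Prop := ∀ i, i ≠ 0 → p ∣ i → f.coeff i = 0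

/-- Every polynomial is congruent modulo `h ^ p - h` to one with no exponent a positive multiple of `p`. -/
theorem exists_reduced (f : k[X]) : ∃ h : k[X], ASReduced p (f + (h ^ p - h)) := by
  classical
  have hp : p.Prime := Fact.out
  have hmono : ∀ n (a : k), ∃ h : k[X], ASReduced p (monomial n a + (h ^ p - h)) := by
    intro n
    induction n using Nat.strong_induction_on with
    | _ n ih =>
      intro a
      by_cases hn : n ≠ 0 ∧ p ∣ n
      · obtain ⟨hn0, m, rfl⟩ := hn
        have hm : m < p * m := by
          have : m ≠ 0 := fun h => hn0 (by rw [h, mul_zero])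
          calc m = 1 * m := (one_mul m).symm
            _ < p * m := Nat.mul_lt_mul_of_pos_right hp.one_lt (Nat.pos_of_ne_zero this)
        obtain ⟨b, hb⟩ := IsAlgClosed.exists_pow_nat_eq a hp.pos
        obtain ⟨h, hh⟩ := ih m hm b
        refine ⟨h - monomial m b, ?_⟩
        have : monomial (p * m) a + ((h - monomial m b) ^ p - (h - monomial m b)) =
            monomial m b + (h ^ p - h) := by
          rw [sub_pow_char, monomial_pow, hb, mul_comm m p]
          ring
        rwa [this]
      · refine ⟨0, fun i hi hpi => ?_⟩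
        rw [zero_pow hp.ne_zero, sub_zero, add_zero, coeff_monomial, if_neg]
        rintro rfl
        exact hn ⟨hi, hpi⟩
  induction f using Polynomial.induction_on' with
  | monomial n a => exact hmono n a
  | add f g hf hg =>
    obtain ⟨h₁, e₁⟩ := hf
    obtain ⟨h₂, e₂⟩ := hg
    refine ⟨h₁ + h₂, fun i hi hpi => ?_⟩
    rw [show f + g + ((h₁ + h₂) ^ p - (h₁ + h₂)) = (f + (h₁ ^ p - h₁)) + (g + (h₂ ^ p - h₂)) by
      rw [add_pow_char]; ring, coeff_add, e₁ i hi hpi, e₂ i hi hpi, add_zero]

/-- If `g ^ p - g` has no exponent a positive multiple of `p` then `g` is constant. -/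
theorem natDegree_eq_zero_of_reduced {g : k[X]} (h : ASReduced p (g ^ p - g)) : g.natDegree = 0 := by
  have hp : p.Prime := Fact.out
  by_contra hne
  have hlt : g.natDegree < g.natDegree * p := lt_mul_of_one_lt_right (Nat.pos_of_ne_zero hne) hp.one_lt
  have h1 := h (g.natDegree * p) (Nat.mul_ne_zero hne hp.ne_zero) (dvd_mul_left _ _)
  rw [coeff_sub, show g.natDegree * p = p * g.natDegree from mul_comm _ _, coeff_pow_mul_natDegree, coeff_eq_zero_of_natDegree_lt (mul_comm g.natDegree p ▸ hlt), sub_zero] at h1
  exact pow_ne_zero _ (leadingCoeff_ne_zero.mpr fun e => hne (by rw [e, natDegree_zero])) h1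

/-- The additive defect of `f` along the lines through the origin. -/
noncomputable def lineDefect (f : k[X]) (c : k) : k[X] :=
  f.comp (C (1 + c) * X) - f - f.comp (C c * X)

theorem coeff_comp_C_mul_X (f : k[X]) (c : k) (i : ℕ) : (f.comp (C c * X)).coeff i = c ^ i * f.coeff i := by
  induction f using Polynomial.induction_on' with
  | add f g hf hg => rw [add_comp, coeff_add, coeff_add, hf, hg]; ring
  | monomial n a =>
    rw [monomial_comp, mul_pow, ← C_pow, ← mul_assoc, ← C_mul, coeff_C_mul, coeff_X_pow, coeff_monomial]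
    by_cases h : i = n
    · subst h; simp [mul_comm]
    · rw [if_neg h, if_neg (Ne.symm h)]; ring

/-- A polynomial without exponents divisible by `p` whose defect is `g ^ p - g` along every line is affine. -/
theorem natDegree_le_one {f : k[X]} (hf : ASReduced p f) (g : k → k[X])
    (hg : ∀ c, g c ^ p - g c = lineDefect f c) : f.natDegree ≤ 1 := by
  have hp : p.Prime := Fact.out
  have hcoef : ∀ c i, (lineDefect f c).coeff i = ((1 + c) ^ i - 1 - c ^ i) * f.coeff i := fun c i => by
    rw [lineDefect, coeff_sub, coeff_sub, coeff_comp_C_mul_X, coeff_comp_C_mul_X]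
    ring
  by_contra hlt
  push Not at hlt
  set d := f.natDegree with hd
  have had : f.coeff d ≠ 0 := leadingCoeff_ne_zero.mpr fun e => by rw [hd, e, natDegree_zero] at hlt; omega
  have hpd : ¬ p ∣ d := fun h => had (hf d (by omega) h)
  have hall : ∀ c : k, ((X + 1) ^ d - 1 - X ^ d : k[X]).eval c = 0 := by
    intro c
    have hred : ASReduced p (g c ^ p - g c) := fun i hi hpi => by rw [hg, hcoef, hf i hi hpi, mul_zero]
    have h0 := natDegree_eq_zero_of_reduced p hred
    have h1 : (g c ^ p - g c).coeff d = 0 := by
      rw [eq_C_of_natDegree_eq_zero h0, ← C_pow, ← C_sub, coeff_C, if_neg (by omega)]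
    rw [hg, hcoef] at h1
    have := (mul_eq_zero.mp h1).resolve_right had
    simpa [add_comm] using this
  have hzero : ((X + 1) ^ d - 1 - X ^ d : k[X]) = 0 := Polynomial.funext fun c => by rw [hall c, eval_zero]
  have h2 := congrArg (coeff · 1) hzero
  simp only [coeff_sub, coeff_X_add_one_pow, coeff_one, coeff_X_pow, coeff_zero, one_ne_zero, if_false,
    if_neg (show 1 ≠ d by omega), Nat.choose_one_right, sub_zero] at h2
  exact hpd ((CharP.cast_eq_zero_iff k p d).mp h2)

end Groth.Agent.UnipOne
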