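import Groth.Agent.UnipOne.Basic
import Groth.Agent.UnipOne.AS
import Groth.Agent.UnipExt.Root
import Groth.Agent.UnipExt.Smooth
import Groth.Agent.UnipCrit.Crit
import Groth.Agent.UnipCrit.SubInv
import Groth.Agent.UnipMu.Closure
import Groth.Agent.UnipComp.Powers
import Groth.Prelude.Def_Red2
import Mathlib.RingTheory.Jacobson.Artinian
import Mathlib.RingTheory.Filtration

/-!
# A connected one-dimensional unipotent group is `G_a`
-/

universe u

open TensorProduct WithConv Polynomial

namespace Groth.Agent.UnipOne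

open Groth.Agent.ComodLib

set_option linter.unusedSectionVars false

variable {k : Type u} [Field k] {A : Type u} [CommRing A] [HopfAlgebra k A]

/-- Evaluation of `A ⊗ A` at a pair of points. -/
noncomputable def ev2 (x y : WithConv (A →ₐ[k] k)) : A ⊗[k] A →ₐ[k] k :=
  Algebra.TensorProduct.lift x.ofConv y.ofConv fun _ _ => Commute.all _ _

theorem ev2_tmul (x y : WithConv (A →ₐ[k] k)) (a b : A) : ev2 x y (a ⊗ₜ[k] b) = x.ofConv a * y.ofConv b :=
  Algebra.TensorProduct.lift_tmul _ _ _ _ _

theorem convMul_eval (x y : WithConv (A →ₐ[k] k)) (a : A) :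
    (x * y).ofConv a = ev2 x y (Coalgebra.comul (R := k) a) := by
  rw [AlgHom.convMul_apply]
  induction Coalgebra.comul (R := k) a using TensorProduct.induction_on with
  | zero => simp
  | tmul p q => simp [ev2_tmul]
  | add p q hp hq => simp only [map_add, hp, hq]

theorem prim_eval {t : A} (ht : Coalgebra.comul (R := k) t = t ⊗ₜ[k] (1 : A) + (1 : A) ⊗ₜ[k] t)
    (x y : WithConv (A →ₐ[k] k)) : (x * y).ofConv t = x.ofConv t + y.ofConv t := by
  rw [convMul_eval, ht, map_add, ev2_tmul, ev2_tmul, map_one, map_one, mul_one, one_mul]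

theorem one_eval {t : A} (ht : Coalgebra.comul (R := k) t = t ⊗ₜ[k] (1 : A) + (1 : A) ⊗ₜ[k] t) :
    (1 : WithConv (A →ₐ[k] k)).ofConv t = 0 := by
  have h := prim_eval ht (1 : WithConv (A →ₐ[k] k)) 1
  rw [one_mul] at h
  exact left_eq_add.mp h

/-- The zeros of an additive function, as a subgroup. -/
def zeros {t : A} (ht : Coalgebra.comul (R := k) t = t ⊗ₜ[k] (1 : A) + (1 : A) ⊗ₜ[k] t) :
    Subgroup (WithConv (A →ₐ[k] k)) where
  carrier := {x | x.ofConv t = 0}
  mul_mem' := fun {a b} ha hb => by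
    show (a * b).ofConv t = 0
    rw [prim_eval ht, show a.ofConv t = 0 from ha, show b.ofConv t = 0 from hb, add_zero]
  one_mem' := one_eval ht
  inv_mem' := fun {a} ha => by
    show (a⁻¹).ofConv t = 0
    have h := prim_eval ht a⁻¹ a
    rw [inv_mul_cancel, one_eval ht, show a.ofConv t = 0 from ha, add_zero] at h
    exact h.symm

variable [IsAlgClosed k] [Algebra.FiniteType k A] [IsDomain A]

theorem ext2 {z : A ⊗[k] A} (h : ∀ x y, ev2 x y z = 0) : z = 0 := by
  refine eq_zero_of_forall_pt fun g => pt_ext (k := k) fun x => ?_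
  rw [map_zero, ← h x (toConv g)]
  clear h
  induction z using TensorProduct.induction_on with
  | zero => simp
  | tmul p q => simp [ev2_tmul, mul_comm]
  | add p q hp hq => simp only [map_add, hp, hq]

theorem prim_of_add {a : A} (h : ∀ x y : WithConv (A →ₐ[k] k), (x * y).ofConv a = x.ofConv a + y.ofConv a) :
    Coalgebra.comul (R := k) a = a ⊗ₜ[k] (1 : A) + (1 : A) ⊗ₜ[k] a := by
  rw [← sub_eq_zero]
  refine ext2 fun x y => ?_
  rw [map_sub, map_add, ← convMul_eval, ev2_tmul, ev2_tmul, map_one, map_one, mul_one, one_mul, h, sub_self]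

variable {t : A} (ht : Coalgebra.comul (R := k) t = t ⊗ₜ[k] (1 : A) + (1 : A) ⊗ₜ[k] t) (ht0 : t ≠ 0)

include ht ht0 in
theorem aeval_injective : Function.Injective (Polynomial.aeval t : k[X] →ₐ[k] A) := by
  rw [← transcendental_iff_injective]
  intro halg
  obtain ⟨c, hc⟩ := mem_range_of_isIntegral (k := k) halg.isIntegral
  have h := one_eval (k := k) ht
  rw [hc, AlgHom.commutes, Algebra.algebraMap_self_apply] at h
  exact ht0 (by rw [hc, h, map_zero])

/-- The homomorphism to `G_a` given by an additive function. -/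
noncomputable def toGa : SymmetricAlgebra k k →ₐc[k] A :=
  BialgHom.ofAlgHom (SymmetricAlgebra.lift (LinearMap.toSpanSingleton k A t))
    (SymmetricAlgebra.algHom_ext (LinearMap.ext_ring (by
      simpa [SymmetricAlgebra.algebraMapInv_ι] using (show Bialgebra.counitAlgHom k A t = 0 from one_eval ht))))
    (SymmetricAlgebra.algHom_ext (LinearMap.ext_ring (by simp [ht])))

theorem toGa_ι : toGa ht (SymmetricAlgebra.ι k k 1) = t :=
  (SymmetricAlgebra.lift_ι_apply _ _).trans (one_smul k t)

theorem exists_poly_symm (c : SymmetricAlgebra k k) :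
    ∃ f : k[X], c = Polynomial.aeval (SymmetricAlgebra.ι k k 1) f := by
  induction c using SymmetricAlgebra.induction with
  | algebraMap r => exact ⟨C r, (aeval_C _ r).symm⟩
  | ι x =>
    refine ⟨C x * X, ?_⟩
    rw [map_mul, aeval_C, aeval_X, ← Algebra.smul_def, ← map_smul, smul_eq_mul, mul_one]
  | mul a b ha hb =>
    obtain ⟨f, rfl⟩ := ha
    obtain ⟨g, rfl⟩ := hb
    exact ⟨f * g, (map_mul _ f g).symm⟩
  | add a b ha hb =>
    obtain ⟨f, rfl⟩ := ha
    obtain ⟨g, rfl⟩ := hb
    exact ⟨f + g, (map_add _ f g).symm⟩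

theorem toGa_aeval (f : k[X]) :
    toGa ht (Polynomial.aeval (SymmetricAlgebra.ι k k 1) f) = Polynomial.aeval t f := by
  have h := Polynomial.aeval_algHom_apply (toGa ht : SymmetricAlgebra k k →ₐ[k] A) (SymmetricAlgebra.ι k k 1) f
  rw [show (toGa ht : SymmetricAlgebra k k →ₐ[k] A) (SymmetricAlgebra.ι k k 1) = t from toGa_ι ht] at h
  exact h.symm

include ht0 in
theorem toGa_injective : Function.Injective (toGa ht) := by
  intro a b hab
  obtain ⟨f, rfl⟩ := exists_poly_symm a
  obtain ⟨g, rfl⟩ := exists_poly_symm b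
  rw [toGa_aeval, toGa_aeval] at hab
  rw [aeval_injective ht ht0 hab]

theorem map_toGa_ker : Ideal.map (toGa ht : SymmetricAlgebra k k →+* A)
    (RingHom.ker (Bialgebra.counitAlgHom k (SymmetricAlgebra k k))) = Ideal.span {t} := by
  refine le_antisymm (Ideal.map_le_iff_le_comap.mpr fun c hc => ?_) ?_
  · obtain ⟨f, rfl⟩ := exists_poly_symm c
    show toGa ht _ ∈ Ideal.span {t}
    rw [toGa_aeval, Ideal.mem_span_singleton]
    have h0 : f.coeff 0 = 0 := by
      have h := (Polynomial.aeval_algHom_apply (Bialgebra.counitAlgHom k (SymmetricAlgebra k k))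
        (SymmetricAlgebra.ι k k 1) f).trans hc
      rw [show Bialgebra.counitAlgHom k (SymmetricAlgebra k k) (SymmetricAlgebra.ι k k 1) = 0 from
        SymmetricAlgebra.counit_ι k k 1] at h
      simpa [Polynomial.coeff_zero_eq_eval_zero, Polynomial.coe_aeval_eq_eval] using h
    obtain ⟨g, rfl⟩ := Polynomial.X_dvd_iff.mpr h0
    exact ⟨Polynomial.aeval t g, by rw [map_mul, aeval_X]⟩
  · rw [Ideal.span_singleton_le_iff_mem]
    have h := Ideal.mem_map_of_mem (toGa ht : SymmetricAlgebra k k →+* A)
      (show SymmetricAlgebra.ι k k 1 ∈ RingHom.ker (Bialgebra.counitAlgHom k (SymmetricAlgebra k k)) from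
        SymmetricAlgebra.counit_ι k k 1)
    rwa [show (toGa ht : SymmetricAlgebra k k →+* A) (SymmetricAlgebra.ι k k 1) = t from toGa_ι ht] at h

instance finiteType_symm : Algebra.FiniteType k (SymmetricAlgebra k k) :=
  Algebra.FiniteType.of_surjective (Polynomial.aeval (SymmetricAlgebra.ι k k 1)) fun c =>
    let ⟨f, hf⟩ := exists_poly_symm c; ⟨f, hf.symm⟩

variable (hdim : ringKrullDim A ≤ 1)

include ht0 hdim in
theorem finite_zeros : (zeros ht : Set (WithConv (A →ₐ[k] k))).Finite := by
  classical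
  haveI : Ring.KrullDimLE 1 A := Ring.krullDimLE_iff.mpr hdim
  haveI : Ring.KrullDimLE 0 (A ⧸ Ideal.span {t}) := Ring.KrullDimLE.mk₀ fun P hP => by
    have hP' : (P.comap (Ideal.Quotient.mk (Ideal.span {t}))).IsPrime := inferInstance
    have hne : P.comap (Ideal.Quotient.mk (Ideal.span {t})) ≠ ⊥ := fun h => by
      have : t ∈ P.comap (Ideal.Quotient.mk (Ideal.span {t})) := by
        rw [Ideal.mem_comap, Ideal.Quotient.eq_zero_iff_mem.mpr (Ideal.mem_span_singleton_self t)]
        exact zero_mem _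
      rw [h, Ideal.mem_bot] at this
      exact ht0 this
    have hmax := Ideal.IsPrime.isMaximal_of_ne_bot hP' hne
    rw [← Ideal.map_comap_of_surjective _ Ideal.Quotient.mk_surjective P]
    exact (Ideal.map_eq_top_or_isMaximal_of_surjective _ Ideal.Quotient.mk_surjective hmax).resolve_left (by
      rw [Ideal.map_comap_of_surjective _ Ideal.Quotient.mk_surjective P]; exact hP.ne_top)
  haveI : Algebra.FiniteType k (A ⧸ Ideal.span {t}) :=
    Algebra.FiniteType.of_surjective (Ideal.Quotient.mkₐ k _) Ideal.Quotient.mk_surjective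
  haveI : Module.Finite k (A ⧸ Ideal.span {t}) := (Module.finite_iff_krullDimLE_zero k (A ⧸ Ideal.span {t})).mpr inferInstance
  haveI : IsArtinianRing (A ⧸ Ideal.span {t}) := IsArtinianRing.of_finite k _
  let lift : zeros ht → (A ⧸ Ideal.span {t}) →ₐ[k] k := fun x => Ideal.Quotient.liftₐ _ x.1.ofConv fun a ha =>
    (Ideal.span_singleton_le_iff_mem (I := RingHom.ker x.1.ofConv)).mpr x.2 ha
  let ker : zeros ht → {I : Ideal (A ⧸ Ideal.span {t}) | I.IsMaximal} := fun x =>
    ⟨RingHom.ker (lift x), RingHom.ker_isMaximal_of_surjective _ fun c => ⟨algebraMap k _ c, (lift x).commutes c⟩⟩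
  haveI : Finite {I : Ideal (A ⧸ Ideal.span {t}) | I.IsMaximal} :=
    (IsArtinianRing.setOfPred_isMaximal_finite _).to_subtype
  refine Set.finite_coe_iff.mp (Finite.of_injective ker fun x y h => Subtype.ext (WithConv.ofConv_injective
    (AlgHom.ext fun a => ?_)))
  have hk : RingHom.ker (lift x) = RingHom.ker (lift y) := congrArg Subtype.val h
  have hmem : Ideal.Quotient.mk _ a - algebraMap k _ (x.1.ofConv a) ∈ RingHom.ker (lift x) := by
    rw [RingHom.mem_ker, map_sub, AlgHom.commutes]
    exact sub_self _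
  rw [hk, RingHom.mem_ker, map_sub, AlgHom.commutes, sub_eq_zero] at hmem
  exact hmem.symm

include ht ht0 hdim in
theorem zeros_central (z : zeros ht) (x : WithConv (A →ₐ[k] k)) : x * z.1 = z.1 * x := by
  refine central_of_not_injective hdim z.1 (fun h => ht0 ?_) x
  have : conjPt z.1 t = 0 := pt_ext (k := k) fun y => by
    rw [eval_conjPt, map_zero, prim_eval ht, prim_eval ht, show z.1.ofConv t = 0 from z.2, add_zero,
      ← prim_eval ht, mul_inv_cancel, one_eval ht]
  exact (Ideal.mem_bot).mp (h ▸ (RingHom.mem_ker.mpr this))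

variable (hred : _root_.IsReduced (A ⧸ Ideal.span {t}))

include ht hred in
theorem mem_span_of_zeros {a : A} (ha : ∀ x ∈ zeros ht, x.ofConv a = 0) : a ∈ Ideal.span {t} := by
  haveI : Algebra.FiniteType k (A ⧸ Ideal.span {t}) :=
    Algebra.FiniteType.of_surjective (Ideal.Quotient.mkₐ k _) Ideal.Quotient.mk_surjective
  by_contra hne
  obtain ⟨g, hg⟩ := exists_point_ne_zero (k := k) (a := Ideal.Quotient.mk (Ideal.span {t}) a)
    fun h => hne (Ideal.Quotient.eq_zero_iff_mem.mp h.eq_zero)
  refine hg (ha (toConv (g.comp (Ideal.Quotient.mkₐ k _))) ?_)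
  show g (Ideal.Quotient.mk _ t) = 0
  rw [Ideal.Quotient.eq_zero_iff_mem.mpr (Ideal.mem_span_singleton_self t), map_zero]

include ht ht0 hred in
theorem exists_poly_of_invariant {a : A}
    (ha : ∀ (x : WithConv (A →ₐ[k] k)) (z : zeros ht), (x * z.1).ofConv a = x.ofConv a) :
    ∃ f : k[X], a = Polynomial.aeval t f := by
  classical
  obtain ⟨c, hc⟩ : a ∈ Set.range (toGa ht) := by
    refine UnipCrit.mem_range_of_comul_sub_mem (toGa ht) (toGa_injective ht ht0) a ?_
    rw [map_toGa_ker]
    set w := Coalgebra.comul (R := k) a - a ⊗ₜ[k] (1 : A) with hw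
    let b := Module.Free.chooseBasis k A
    let e := TensorProduct.equivFinsuppOfBasisLeft (N := A) b
    have hl : ∀ l, e w l ∈ Ideal.span {t} := by
      intro l
      refine mem_span_of_zeros ht hred fun z hz => ?_
      have h0 : ∀ v : A ⊗[k] A, z.ofConv (e v l) = b.repr (slice z.ofConv.toLinearMap v) l := fun v => by
        induction v using TensorProduct.induction_on with
        | zero => simp
        | tmul p q => simp [e, mul_comm]
        | add p q hp hq => simp only [map_add, Finsupp.add_apply, hp, hq]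
      have h1 : slice z.ofConv.toLinearMap w = 0 := by
        refine pt_ext (k := k) fun x => ?_
        have h2 : ∀ v : A ⊗[k] A, x.ofConv (slice z.ofConv.toLinearMap v) = ev2 x z v := fun v => by
          induction v using TensorProduct.induction_on with
          | zero => simp
          | tmul p q => simp [ev2_tmul, mul_comm]
          | add p q hp hq => simp only [map_add, hp, hq]
        rw [h2, hw, map_sub, ← convMul_eval, ev2_tmul, map_one, mul_one, ha x ⟨z, hz⟩, sub_self, map_zero]
      rw [h0, h1, map_zero, Finsupp.zero_apply]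
    rw [← e.symm_apply_apply w, TensorProduct.equivFinsuppOfBasisLeft_symm_apply]
    exact Submodule.sum_mem _ fun l _ => ⟨b l ⊗ₜ[k] ⟨e w l, hl l⟩, rfl⟩
  obtain ⟨f, rfl⟩ := exists_poly_symm c
  exact ⟨f, by rw [← hc, toGa_aeval]⟩

include ht ht0 in
theorem exists_point_val (c : k) : ∃ x : WithConv (A →ₐ[k] k), x.ofConv t = c := by
  let ψ := toGa ht
  letI : Algebra (SymmetricAlgebra k k) A := (ψ : SymmetricAlgebra k k →ₐ[k] A).toRingHom.toAlgebra
  haveI : Module.FaithfullyFlat (SymmetricAlgebra k k) A :=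
    GrpSchLib.HopfFlat.faithfullyFlat ψ (toGa_injective ht ht0)
  let pc : SymmetricAlgebra k k →ₐ[k] k := SymmetricAlgebra.lift (LinearMap.toSpanSingleton k k c)
  have hne : Ideal.map (algebraMap (SymmetricAlgebra k k) A) (RingHom.ker pc) ≠ ⊤ := by
    intro h
    have h2 := Ideal.comap_map_eq_self_of_faithfullyFlat (B := A) (RingHom.ker pc)
    rw [h, Ideal.comap_top] at h2
    exact RingHom.ker_ne_top _ h2.symm
  obtain ⟨g, hg⟩ := exists_point (k := k) _ hne
  refine ⟨toConv g, ?_⟩
  have hpc : SymmetricAlgebra.ι k k 1 - algebraMap k _ c ∈ RingHom.ker pc := by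
    rw [RingHom.mem_ker, map_sub, AlgHom.commutes]
    simp [pc]
  have := RingHom.mem_ker.mp (hg (Ideal.mem_map_of_mem _ hpc))
  rw [map_sub, map_sub, sub_eq_zero] at this
  rw [show algebraMap (SymmetricAlgebra k k) A (SymmetricAlgebra.ι k k 1) = t from toGa_ι ht,
    show algebraMap (SymmetricAlgebra k k) A (algebraMap k _ c) = algebraMap k A c from
      (ψ : SymmetricAlgebra k k →ₐ[k] A).commutes c, AlgHom.commutes] at this
  exact this

include ht ht0 hdim hred in
theorem exists_shifted [Fintype (zeros ht)] (p : ℕ) [CharP k p] (χ : zeros ht →* Multiplicative (ZMod p)) :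
    ∃ s : A, ∀ (x : WithConv (A →ₐ[k] k)) (z : zeros ht),
      (x * z.1).ofConv s = x.ofConv s + ZMod.castHom dvd_rfl k (χ z).toAdd := by
  classical
  let H := zeros ht
  let Tr : A → A := fun a => ∑ z : H, tr z.1 a
  have hTr : ∀ a (x : WithConv (A →ₐ[k] k)), x.ofConv (Tr a) = ∑ z : H, (x * z.1).ofConv a := fun a x => by
    simp only [Tr, map_sum, eval_tr]
  -- a function separating the origin from the other zeros
  have hsep : ∀ z : H, z ≠ 1 → ∃ a : A, z.1.ofConv a = 0 ∧ (1 : WithConv (A →ₐ[k] k)).ofConv a = 1 := by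
    intro z hz
    obtain ⟨a, ha⟩ : ∃ a, z.1.ofConv a ≠ (1 : WithConv (A →ₐ[k] k)).ofConv a := by
      by_contra hcon
      push Not at hcon
      exact hz (Subtype.ext (WithConv.ofConv_injective (AlgHom.ext hcon)))
    refine ⟨((1 : WithConv (A →ₐ[k] k)).ofConv a - z.1.ofConv a)⁻¹ • (a - algebraMap k A (z.1.ofConv a)), ?_, ?_⟩
    · rw [map_smul, map_sub, AlgHom.commutes]
      simp
    · rw [map_smul, map_sub, AlgHom.commutes, Algebra.algebraMap_self_apply, smul_eq_mul]
      exact inv_mul_cancel₀ (sub_ne_zero.mpr (Ne.symm ha))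
  choose a ha0 ha1 using hsep
  let θ₀ : A := ∏ z : H, if h : z = 1 then 1 else a z h
  have hθ : ∀ z : H, z.1.ofConv θ₀ = if z = 1 then 1 else 0 := by
    intro z
    simp only [θ₀, map_prod]
    split_ifs with hz
    · subst hz
      refine Finset.prod_eq_one fun w _ => ?_
      split_ifs with hw
      · exact map_one _
      · exact ha1 w hw
    · refine Finset.prod_eq_zero (Finset.mem_univ z) ?_
      rw [dif_neg hz]
      exact ha0 z hz
  -- traces are polynomials in `t`; those arising form an ideal, the unit ideal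
  let R : Ideal k[X] :=
    { carrier := {f | ∃ θ, Tr θ = Polynomial.aeval t f}
      add_mem' := by
        rintro f g ⟨θ, hθ⟩ ⟨η, hη⟩
        exact ⟨θ + η, by rw [map_add, ← hθ, ← hη]; simp [Tr, Finset.sum_add_distrib]⟩
      zero_mem' := ⟨0, by simp [Tr]⟩
      smul_mem' := by
        rintro g f ⟨θ, hθ⟩
        refine ⟨Polynomial.aeval t g * θ, pt_ext (k := k) fun x => ?_⟩
        rw [hTr, smul_eq_mul, map_mul (Polynomial.aeval t), map_mul, ← hθ, hTr, Finset.mul_sum]
        refine Finset.sum_congr rfl fun z _ => ?_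
        rw [map_mul, ← Polynomial.aeval_algHom_apply, ← Polynomial.aeval_algHom_apply, prim_eval ht,
          show z.1.ofConv t = 0 from z.2, add_zero] }
  have hinv : ∀ θ, ∃ f, Tr θ = Polynomial.aeval t f := fun θ =>
    exists_poly_of_invariant ht ht0 hred fun x z => by
      rw [hTr, hTr]
      refine Fintype.sum_equiv (Equiv.mulLeft z) _ _ fun w => ?_
      rw [mul_assoc]
      rfl
  have hR : R = ⊤ := by
    by_contra hne
    obtain ⟨M, hM, hRM⟩ := Ideal.exists_le_maximal _ hne
    obtain ⟨g, hg⟩ := exists_point (k := k) M hM.ne_top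
    obtain ⟨x, hx⟩ := exists_point_val ht ht0 (g X)
    obtain ⟨f, hf⟩ := hinv (trl x⁻¹ θ₀)
    have h1 : x.ofConv (Tr (trl x⁻¹ θ₀)) = 1 := by
      rw [hTr, Finset.sum_eq_single (1 : H)]
      · rw [eval_trl, OneMemClass.coe_one, mul_one, inv_mul_cancel]
        simpa using hθ 1
      · intro z _ hz
        rw [eval_trl, inv_mul_cancel_left, hθ, if_neg hz]
      · intro h; exact absurd (Finset.mem_univ _) h
    rw [hf, ← Polynomial.aeval_algHom_apply, hx, Polynomial.aeval_algHom_apply, Polynomial.aeval_X_left_apply,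
      RingHom.mem_ker.mp (hg (hRM ⟨_, hf⟩))] at h1
    exact zero_ne_one h1
  obtain ⟨θ, hθ1⟩ : ∃ θ, Tr θ = Polynomial.aeval t (1 : k[X]) := (hR ▸ Submodule.mem_top : (1 : k[X]) ∈ R)
  rw [map_one] at hθ1
  let ι : ZMod p →+* k := ZMod.castHom dvd_rfl k
  refine ⟨-∑ z : H, ι (χ z).toAdd • tr z.1 θ, fun x w => ?_⟩
  have hs : ∀ y : WithConv (A →ₐ[k] k), y.ofConv (-∑ z : H, ι (χ z).toAdd • tr z.1 θ) =
      -∑ z : H, ι (χ z).toAdd * (y * z.1).ofConv θ := fun y => by
    simp only [map_neg, map_sum, map_smul, eval_tr, smul_eq_mul]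
  have h1 : ∑ z : H, (x * z.1).ofConv θ = 1 := by rw [← hTr, hθ1, map_one]
  rw [hs, hs]
  have h2 : ∑ z : H, ι (χ z).toAdd * (x * w.1 * z.1).ofConv θ =
      ∑ z : H, (ι (χ z).toAdd - ι (χ w).toAdd) * (x * z.1).ofConv θ := by
    refine Fintype.sum_equiv (Equiv.mulLeft w) _ _ fun z => ?_
    rw [mul_assoc, Equiv.coe_mulLeft, map_mul, toAdd_mul, map_add, add_sub_cancel_left]
    rfl
  rw [h2]
  simp only [sub_mul, Finset.sum_sub_distrib, ← Finset.mul_sum, h1, mul_one]
  show -(_ - ι (χ w).toAdd) = -_ + ι (χ w).toAdd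
  ring

include ht ht0 hdim hred in
theorem exists_additive (p : ℕ) [hp : Fact p.Prime] [CharP k p] (χ : zeros ht →* Multiplicative (ZMod p))
    (hχ : Function.Surjective χ) :
    ∃ (s : A) (a : k), a ≠ 0 ∧ s ≠ 0 ∧ Coalgebra.comul (R := k) s = s ⊗ₜ[k] (1 : A) + (1 : A) ⊗ₜ[k] s ∧
      s ^ p - s = a • t ∧ ∃ z : zeros ht, z.1.ofConv s ≠ 0 := by
  classical
  haveI : Fintype (zeros ht) := (finite_zeros ht ht0 hdim).fintype
  haveI : CharP A p := charP_of_injective_algebraMap (algebraMap k A).injective p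
  obtain ⟨s₀, hs₀⟩ := exists_shifted ht ht0 hdim hred p χ
  let ι : ZMod p →+* k := ZMod.castHom dvd_rfl k
  have hι : ∀ e : ZMod p, ι e ^ p = ι e := fun e => by rw [← map_pow, ZMod.pow_card]
  obtain ⟨f₀, hf₀⟩ : ∃ f, s₀ ^ p - s₀ = Polynomial.aeval t f := exists_poly_of_invariant ht ht0 hred fun x z => by
    rw [map_sub, map_sub, map_pow, map_pow, hs₀, add_pow_char, hι]
    ring
  obtain ⟨h, hh⟩ := exists_reduced p f₀
  let f := f₀ + (h ^ p - h)
  let s₁ := s₀ + Polynomial.aeval t h
  have hs₁ : ∀ (x : WithConv (A →ₐ[k] k)) (z : zeros ht), (x * z.1).ofConv s₁ = x.ofConv s₁ + ι (χ z).toAdd := by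
    intro x z
    simp only [s₁, map_add, hs₀, ← Polynomial.aeval_algHom_apply, prim_eval ht, show z.1.ofConv t = 0 from z.2,
      add_zero]
    ring
  have hf : s₁ ^ p - s₁ = Polynomial.aeval t f := by
    simp only [s₁, f, add_pow_char, map_add, map_sub, map_pow, ← hf₀]
    ring
  have hfx : ∀ x : WithConv (A →ₐ[k] k), x.ofConv s₁ ^ p - x.ofConv s₁ = f.eval (x.ofConv t) := fun x => by
    rw [← map_pow, ← map_sub, hf, ← Polynomial.aeval_algHom_apply, Polynomial.coe_aeval_eq_eval]
  -- the defect of additivity is a polynomial in the two values of `t`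
  obtain ⟨hco, hev⟩ : ∃ h : ℕ →₀ k[X], ∀ x y : WithConv (A →ₐ[k] k),
      (x * y).ofConv s₁ - x.ofConv s₁ - y.ofConv s₁ =
        h.sum fun i q => q.eval (x.ofConv t) * y.ofConv t ^ i := by
    let w : A ⊗[k] A := Coalgebra.comul (R := k) s₁ - s₁ ⊗ₜ[k] 1 - 1 ⊗ₜ[k] s₁
    have hw : ∀ x y, ev2 x y w = (x * y).ofConv s₁ - x.ofConv s₁ - y.ofConv s₁ := fun x y => by
      simp only [w, map_sub, ← convMul_eval, ev2_tmul, map_one, mul_one, one_mul]
    have hr : ∀ x y (z : zeros ht), ev2 x (y * z.1) w = ev2 x y w := fun x y z => by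
      rw [hw, hw, ← mul_assoc, hs₁, hs₁]
      ring
    have hl : ∀ x y (z : zeros ht), ev2 (x * z.1) y w = ev2 x y w := fun x y z => by
      rw [hw, hw, mul_assoc, ← zeros_central ht ht0 hdim z y, ← mul_assoc, hs₁, hs₁]
      ring
    let b := Module.Free.chooseBasis k A
    let e := TensorProduct.equivFinsuppOfBasisLeft (N := A) b
    have hexp : ∀ x y, ev2 x y w = (e w).sum fun l q => x.ofConv (b l) * y.ofConv q := fun x y => by
      conv_lhs => rw [← e.symm_apply_apply w, TensorProduct.equivFinsuppOfBasisLeft_symm_apply]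
      rw [Finsupp.sum, map_sum]
      exact Finset.sum_congr rfl fun l _ => ev2_tmul x y _ _
    have hy : ∀ l, ∃ q : k[X], e w l = Polynomial.aeval t q := fun l =>
      exists_poly_of_invariant ht ht0 hred fun y z => by
        have h0 : ∑ m ∈ (e w).support, ((y * z.1).ofConv (e w m) - y.ofConv (e w m)) • b m = 0 :=
          pt_ext (k := k) fun x => by
            simp only [map_sum, map_smul, smul_eq_mul, map_zero, sub_mul, Finset.sum_sub_distrib]
            have := (hexp x (y * z.1)).symm.trans ((hr x y z).trans (hexp x y))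
            simp only [Finsupp.sum] at this
            rw [sub_eq_zero]
            simpa [mul_comm] using this
        by_cases hl' : l ∈ (e w).support
        · exact sub_eq_zero.mp (linearIndependent_iff'.mp b.linearIndependent _ _ h0 l hl')
        · rw [Finsupp.notMem_support_iff.mp hl']
          simp
    choose q hq using hy
    let c : ℕ → A := fun i => ∑ l ∈ (e w).support, (q l).coeff i • b l
    let N := (e w).support.sup (fun l => (q l).natDegree) + 1
    have hexp2 : ∀ x y : WithConv (A →ₐ[k] k),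
        ev2 x y w = ∑ i ∈ Finset.range N, x.ofConv (c i) * y.ofConv t ^ i := by
      intro x y
      rw [hexp, Finsupp.sum]
      simp only [c, map_sum, map_smul, smul_eq_mul, Finset.sum_mul]
      rw [Finset.sum_comm]
      refine Finset.sum_congr rfl fun l hl' => ?_
      rw [hq, ← Polynomial.aeval_algHom_apply, Polynomial.coe_aeval_eq_eval,
        Polynomial.eval_eq_sum_range' (n := N) (Nat.lt_succ_of_le (Finset.le_sup (f := fun l => (q l).natDegree) hl')),
        Finset.mul_sum]
      exact Finset.sum_congr rfl fun i _ => by ring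
    have hc : ∀ i ∈ Finset.range N, ∃ r : k[X], c i = Polynomial.aeval t r := fun i hi =>
      exists_poly_of_invariant ht ht0 hred fun x z => by
        let P : k[X] := ∑ i ∈ Finset.range N, C ((x * z.1).ofConv (c i) - x.ofConv (c i)) * X ^ i
        have hP : P = 0 := Polynomial.funext fun u => by
          obtain ⟨y, hy⟩ := exists_point_val ht ht0 u
          have := (hexp2 (x * z.1) y).symm.trans ((hl x y z).trans (hexp2 x y))
          simp only [P, eval_finsetSum, eval_mul, eval_C, eval_pow, eval_X, sub_mul, Finset.sum_sub_distrib, eval_zero]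
          rw [sub_eq_zero, ← hy]
          exact this
        have h1 := congrArg (Polynomial.coeff · i) hP
        simp only [P, finsetSum_coeff, coeff_C_mul, coeff_X_pow, mul_ite, mul_one, mul_zero, Finset.sum_ite_eq,
          if_pos hi, coeff_zero] at h1
        exact sub_eq_zero.mp h1
    choose r hr' using hc
    refine ⟨∑ i ∈ (Finset.range N).attach, Finsupp.single i.1 (r i.1 i.2), fun x y => ?_⟩
    rw [← hw, hexp2, ← Finsupp.sum_finsetSum_index (fun _ => by simp) (fun _ _ _ => by simp [add_mul])]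
    rw [← Finset.sum_attach]
    refine Finset.sum_congr rfl fun i _ => ?_
    rw [Finsupp.sum_single_index (by simp), hr' i.1 i.2, ← Polynomial.aeval_algHom_apply,
      Polynomial.coe_aeval_eq_eval]
  -- its restrictions to lines
  let g : k → k[X] := fun c => hco.sum fun i q => q * (C c * X) ^ i
  have hg : ∀ c, g c ^ p - g c = lineDefect f c := by
    intro c
    refine Polynomial.funext fun u => ?_
    obtain ⟨x, hx⟩ := exists_point_val ht ht0 u
    obtain ⟨y, hy⟩ := exists_point_val ht ht0 (c * u)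
    have hgu : (g c).eval u = (x * y).ofConv s₁ - x.ofConv s₁ - y.ofConv s₁ := by
      rw [hev, hx, hy]
      simp [g, Finsupp.sum, eval_finsetSum]
    rw [eval_sub, eval_pow, hgu, sub_pow_char, sub_pow_char]
    simp only [lineDefect, eval_sub, eval_comp, eval_mul, eval_C, eval_X]
    have e1 := hfx (x * y)
    rw [prim_eval ht, hx, hy, show u + c * u = (1 + c) * u by ring] at e1
    rw [← e1, ← hy, ← hfx y, ← hx, ← hfx x]
    ring
  have hdeg : f.natDegree ≤ 1 := natDegree_le_one p hh g hg
  have hff : f = C (f.coeff 1) * X + C (f.coeff 0) := eq_X_add_C_of_natDegree_le_one hdeg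
  have hgd : ∀ c, (g c).natDegree = 0 := by
    intro c
    refine natDegree_eq_zero_of_reduced p fun i hi hpi => ?_
    rw [hg, lineDefect, coeff_sub, coeff_sub, coeff_comp_C_mul_X, coeff_comp_C_mul_X, hh i hi hpi]
    ring
  -- the defect is constant
  let g0 : k := (hco.sum fun i q => q.eval 0 * 0 ^ i)
  have hline : ∀ c u, (hco.sum fun i q => q.eval u * (c * u) ^ i) = g0 := by
    intro c u
    have e : ∀ v, (g c).eval v = hco.sum fun i q => q.eval v * (c * v) ^ i := fun v => by
      simp [g, Finsupp.sum, eval_finsetSum]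
    have h0 := e 0
    rw [mul_zero] at h0
    rw [← e, show g0 = (g c).eval 0 from h0.symm, eq_C_of_natDegree_eq_zero (hgd c), eval_C, eval_C]
  have hall : ∀ u v, (hco.sum fun i q => q.eval u * v ^ i) = g0 := by
    intro u v
    let Q : k[X] := hco.sum fun i q => q * C (v ^ i)
    have hQ : ∀ w, Q.eval w = hco.sum fun i q => q.eval w * v ^ i := fun w => by
      simp [Q, Finsupp.sum, eval_finsetSum]
    have : Q - C g0 = 0 := Polynomial.eq_zero_of_infinite_isRoot _ (Set.Infinite.mono (s := {0}ᶜ) (fun w hw => by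
      show IsRoot _ w
      have hw0 : w ≠ 0 := hw
      rw [IsRoot, eval_sub, eval_C, hQ, show v = v / w * w from (div_mul_cancel₀ v hw0).symm, hline, sub_self])
      (Set.finite_singleton 0).infinite_compl)
    rw [← hQ, sub_eq_zero.mp this, eval_C]
  -- correct the constant
  let s := s₁ + algebraMap k A g0
  have hsadd : ∀ x y : WithConv (A →ₐ[k] k), (x * y).ofConv s = x.ofConv s + y.ofConv s := by
    intro x y
    have h1 := hev x y
    rw [hall] at h1
    simp only [s, map_add, AlgHom.commutes, Algebra.algebraMap_self_apply]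
    linear_combination h1
  have hsprim := prim_of_add hsadd
  have hs1 : (1 : WithConv (A →ₐ[k] k)).ofConv s = 0 := one_eval hsprim
  have hsz : ∀ z : zeros ht, z.1.ofConv s = ι (χ z).toAdd := by
    intro z
    have h := hs₁ 1 z
    rw [one_mul] at h
    have h2 : (1 : WithConv (A →ₐ[k] k)).ofConv s₁ + g0 = 0 := by
      simpa [s] using hs1
    simp only [s, map_add, AlgHom.commutes, Algebra.algebraMap_self_apply, h]
    linear_combination h2
  obtain ⟨z, hz⟩ := hχ (Multiplicative.ofAdd (1 : ZMod p))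
  have hzs : z.1.ofConv s ≠ 0 := by rw [hsz, hz]; simp
  have hsp : s ^ p - s = f.coeff 1 • t := by
    refine pt_ext (k := k) fun x => ?_
    have h1 := hfx x
    rw [hff] at h1
    simp only [eval_add, eval_mul, eval_C, eval_X] at h1
    have h0 := hfx 1
    rw [hff, one_eval ht] at h0
    simp only [eval_add, eval_mul, eval_C, eval_X, mul_zero, zero_add] at h0
    have h2 : (1 : WithConv (A →ₐ[k] k)).ofConv s₁ = -g0 := by
      have : (1 : WithConv (A →ₐ[k] k)).ofConv s₁ + g0 = 0 := by simpa [s] using hs1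
      linear_combination this
    rw [h2] at h0
    simp only [s, map_sub, map_pow, map_add, map_smul, AlgHom.commutes, Algebra.algebraMap_self_apply,
      smul_eq_mul, add_pow_char]
    rw [show (-g0) ^ p = -(g0 ^ p) by rw [neg_pow, neg_one_pow_char, neg_one_mul]] at h0
    linear_combination h1 - h0
  refine ⟨s, f.coeff 1, fun ha => hzs ?_, fun h => hzs (by rw [h, map_zero]), hsprim, hsp, z, hzs⟩
  rw [ha, zero_smul, sub_eq_zero] at hsp
  obtain ⟨c, hc⟩ := mem_range_of_isIntegral (k := k) (a := s) ⟨X ^ p - X,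
    monic_X_pow_sub (by simpa using hp.out.one_lt), by simp [hsp]⟩
  rw [hc, AlgHom.commutes] at hs1 ⊢
  exact hs1

end Groth.Agent.UnipOne
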