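import Groth.Agent.ComodLib.StableOrbit
import Groth.Agent.ComodLib.Orbits
import Groth.Agent.ComodLib.Unitriangular
import Groth.Agent.S5423
import Mathlib.RingTheory.KrullDimension.Basic
import Mathlib.FieldTheory.IsAlgClosed.Basic
import Mathlib.FieldTheory.Minpoly.Field
import Mathlib.LinearAlgebra.Matrix.Charpoly.Basic
import Mathlib.LinearAlgebra.Charpoly.ToMatrix

/-!
# Points, translations and conjugation on a one-dimensional group
-/

universe u

open TensorProduct WithConv

namespace Groth.Agent.UnipOne

open Groth.Agent.ComodLib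

variable {k : Type u} [Field k] {A : Type u} [CommRing A] [HopfAlgebra k A]

/-- An integral element of a domain over an algebraically closed field is a constant. -/
theorem mem_range_of_isIntegral [IsAlgClosed k] [IsDomain A] {a : A} (ha : IsIntegral k a) :
    ∃ c : k, a = algebraMap k A c := by
  obtain ⟨c, hc⟩ := minpoly.mem_range_of_degree_eq_one k a
    (IsAlgClosed.degree_eq_one_of_irreducible k (minpoly.irreducible ha))
  exact ⟨c, hc.symm⟩

/-- Nonzero primes are maximal in a one-dimensional domain; in particular maps with big image are injective. -/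
theorem ker_eq_bot [IsDomain A] (hdim : ringKrullDim A ≤ 1) {B : Type*} [CommRing B] [IsDomain B]
    (f : A →+* B) (hf : ¬ IsField f.range) : RingHom.ker f = ⊥ := by
  haveI : Ring.KrullDimLE 1 A := Ring.krullDimLE_iff.mpr hdim
  by_contra hne
  haveI : (RingHom.ker f).IsPrime := RingHom.ker_isPrime f
  have hmax := Ideal.IsPrime.isMaximal_of_ne_bot (I := RingHom.ker f) inferInstance hne
  exact hf ((RingHom.quotientKerEquivRange f).symm.toMulEquiv.isField
    ((Ideal.Quotient.maximal_ideal_iff_isField_quotient _).mp hmax))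

/-- A homomorphism from a one-dimensional domain is injective or constant. -/
theorem injective_or_const [IsAlgClosed k] [Algebra.FiniteType k A] [IsDomain A] (hdim : ringKrullDim A ≤ 1)
    {B : Type*} [CommRing B] [IsDomain B] [Algebra k B] (f : A →ₐ[k] B) :
    RingHom.ker f = ⊥ ∨ ∀ a, ∃ c : k, f a = algebraMap k B c := by
  by_cases hne : RingHom.ker f = ⊥
  · exact Or.inl hne
  refine Or.inr fun a => ?_
  haveI : Ring.KrullDimLE 1 A := Ring.krullDimLE_iff.mpr hdim
  haveI : (RingHom.ker f).IsPrime := RingHom.ker_isPrime f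
  haveI hmax : (RingHom.ker f).IsMaximal := Ideal.IsPrime.isMaximal_of_ne_bot (I := RingHom.ker f) inferInstance hne
  obtain ⟨g, hg⟩ := exists_point (k := k) (RingHom.ker f) hmax.ne_top
  refine ⟨g a, ?_⟩
  have : RingHom.ker f = RingHom.ker g := hmax.eq_of_le (RingHom.ker_ne_top _) hg
  have h : a - algebraMap k A (g a) ∈ RingHom.ker f := by
    rw [this, RingHom.mem_ker, map_sub, AlgHom.commutes, Algebra.algebraMap_self_apply, sub_self]
  rwa [RingHom.mem_ker, map_sub, AlgHom.commutes, sub_eq_zero] at h

/-- Right translation of functions by a point. -/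
noncomputable def tr (g : WithConv (A →ₐ[k] k)) : A →ₐ[k] A :=
  (toConv (AlgHom.id k A) * toConv ((Algebra.ofId k A).comp g.ofConv)).ofConv

/-- Left translation of functions by a point. -/
noncomputable def trl (g : WithConv (A →ₐ[k] k)) : A →ₐ[k] A :=
  (toConv ((Algebra.ofId k A).comp g.ofConv) * toConv (AlgHom.id k A)).ofConv

theorem comp_const (x : A →ₐ[k] k) (g : WithConv (A →ₐ[k] k)) :
    toConv (x.comp ((Algebra.ofId k A).comp g.ofConv)) = g :=
  WithConv.ofConv_injective (AlgHom.ext fun b => x.commutes _)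

theorem eval_tr (x g : WithConv (A →ₐ[k] k)) (a : A) : x.ofConv (tr g a) = (x * g).ofConv a := by
  refine AlgHom.congr_fun (?_ : x.ofConv.comp (tr g) = (x * g).ofConv) a
  rw [tr, AlgHom.comp_convMul_distrib]
  exact congrArg WithConv.ofConv (congrArg₂ (· * ·) (congrArg toConv (AlgHom.comp_id _)) (comp_const _ _))

theorem eval_trl (x g : WithConv (A →ₐ[k] k)) (a : A) : x.ofConv (trl g a) = (g * x).ofConv a := by
  refine AlgHom.congr_fun (?_ : x.ofConv.comp (trl g) = (g * x).ofConv) a
  rw [trl, AlgHom.comp_convMul_distrib]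
  exact congrArg WithConv.ofConv (congrArg₂ (· * ·) (comp_const _ _) (congrArg toConv (AlgHom.comp_id _)))

theorem comp_antipode (x : WithConv (A →ₐ[k] k)) :
    toConv (x.ofConv.comp (HopfAlgebra.antipodeAlgHom k A)) = x⁻¹ := rfl

/-- Conjugation `x ↦ x g x⁻¹` read on functions. -/
noncomputable def conjPt (g : WithConv (A →ₐ[k] k)) : A →ₐ[k] A :=
  (toConv (AlgHom.id k A) * toConv ((Algebra.ofId k A).comp g.ofConv) *
    toConv (HopfAlgebra.antipodeAlgHom k A)).ofConv

theorem eval_conjPt (x g : WithConv (A →ₐ[k] k)) (a : A) : x.ofConv (conjPt g a) = (x * g * x⁻¹).ofConv a := by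
  refine AlgHom.congr_fun (?_ : x.ofConv.comp (conjPt g) = (x * g * x⁻¹).ofConv) a
  rw [conjPt, AlgHom.comp_convMul_distrib, WithConv.toConv_ofConv, AlgHom.comp_convMul_distrib]
  simp only [WithConv.ofConv_toConv, WithConv.toConv_ofConv, AlgHom.comp_id, comp_const, comp_antipode]

variable [IsAlgClosed k] [Algebra.FiniteType k A] [IsDomain A]

/-- The points are functions separating `A`. -/
theorem pt_ext {a b : A} (h : ∀ x : WithConv (A →ₐ[k] k), x.ofConv a = x.ofConv b) : a = b := by
  by_contra hne
  obtain ⟨g, hg⟩ := exists_point_ne_zero (k := k) (a := a - b) (fun hnil => hne (sub_eq_zero.mp hnil.eq_zero))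
  exact hg (by rw [map_sub]; exact sub_eq_zero.mpr (h (toConv g)))

variable (hdim : ringKrullDim A ≤ 1)

include hdim in
/-- A point whose conjugation is not injective is central. -/
theorem central_of_not_injective (g : WithConv (A →ₐ[k] k)) (hg : RingHom.ker (conjPt g) ≠ ⊥)
    (x : WithConv (A →ₐ[k] k)) : x * g = g * x := by
  have h := (injective_or_const hdim (conjPt g)).resolve_left hg
  have : x * g * x⁻¹ = g := by
    refine WithConv.ofConv_injective (AlgHom.ext fun a => ?_)
    obtain ⟨c, hc⟩ := h a
    have h1 := eval_conjPt (1 : WithConv (A →ₐ[k] k)) g a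
    have h2 := eval_conjPt x g a
    rw [hc, AlgHom.commutes] at h1 h2
    rw [← h2, h1, one_mul, inv_one, mul_one]
  calc x * g = x * g * x⁻¹ * x := by rw [inv_mul_cancel_right]
    _ = g * x := by rw [this]

/-- A dense conjugacy class forces unipotence. -/
theorem isUnipotent_of_injective (g : WithConv (A →ₐ[k] k)) (hg : RingHom.ker (conjPt g) = ⊥) :
    HopfRep.IsUnipotent k A := by
  classical
  refine (Groth.Agent.S5423.result k A).mpr fun y V _ _ cV _ => ?_
  obtain ⟨n, ⟨b⟩⟩ : ∃ n, Nonempty (Module.Basis (Fin n) k V) := ⟨_, ⟨Module.finBasis k V⟩⟩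
  let M : Matrix (Fin n) (Fin n) A := fun i j => coeffMatrix b i j
  have hact : ∀ x : WithConv (A →ₐ[k] k), LinearMap.toMatrix b b (HopfRep.Comod.act k A V x.ofConv) = M.map x.ofConv := by
    intro x
    ext i j
    rw [LinearMap.toMatrix_apply]
    simp only [HopfRep.Comod.act, LinearMap.comp_apply, LinearEquiv.coe_coe, coact_basis (A := A) b j, map_sum,
      LinearMap.lTensor_tmul, TensorProduct.rid_tmul, map_smul, Finsupp.coe_finsetSum, Finset.sum_apply,
      Module.Basis.repr_self, Finsupp.smul_apply, Finsupp.single_apply, Matrix.map_apply, AlgHom.toLinearMap_apply]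
    simp [M]
  have hmul : ∀ x z : WithConv (A →ₐ[k] k), M.map (x * z).ofConv = M.map x.ofConv * M.map z.ofConv := by
    intro x z
    ext i j
    rw [Matrix.map_apply, AlgHom.convMul_apply, comul_coeffMatrix, Matrix.mul_apply]
    simp [M]
  have hone : M.map (1 : WithConv (A →ₐ[k] k)).ofConv = 1 := by
    ext i j
    have h1 := LinearMap.congr_fun (HopfRep.Comod.counit_comp (k := k) (A := A) (V := V)) (b j)
    simp only [LinearMap.comp_apply, coact_basis (A := A) b j, map_sum, LinearMap.lTensor_tmul] at h1
    have h2 := congrArg (fun t => b.repr (TensorProduct.rid k V t) i) h1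
    simp [Finsupp.single_apply] at h2
    rw [Matrix.map_apply, Matrix.one_apply]
    exact h2.trans (by simp [eq_comm])
  have hcp : ∀ z : WithConv (A →ₐ[k] k), (M.map z.ofConv).charpoly = M.charpoly.map (z.ofConv : A →+* k) := fun z =>
    Matrix.charpoly_map M (z.ofConv : A →+* k)
  have hconj : M.charpoly.map ((conjPt g : A →ₐ[k] A) : A →+* A) =
      ((M.map g.ofConv).charpoly).map (algebraMap k A) := by
    refine Polynomial.ext fun i => pt_ext (k := k) fun x => ?_
    rw [Polynomial.coeff_map, Polynomial.coeff_map, RingHom.coe_coe, eval_conjPt, AlgHom.commutes,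
      Algebra.algebraMap_self_apply]
    have h1 := congrArg (Polynomial.coeff · i) (hcp (x * g * x⁻¹))
    simp only [Polynomial.coeff_map, RingHom.coe_coe] at h1
    rw [← h1, hmul, hmul, Matrix.charpoly_mul_comm, ← mul_assoc, ← hmul, inv_mul_cancel, hone, one_mul]
  have hM : M.charpoly = ((M.map g.ofConv).charpoly).map (algebraMap k A) := by
    refine Polynomial.ext fun i => (RingHom.injective_iff_ker_eq_bot (conjPt g : A →+* A)).mpr hg ?_
    have h1 := congrArg (Polynomial.coeff · i) hconj
    simp only [Polynomial.coeff_map] at h1 ⊢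
    rw [h1]
    exact ((conjPt g).commutes _).symm
  have hall : ∀ z : WithConv (A →ₐ[k] k), (M.map z.ofConv).charpoly = (M.map g.ofConv).charpoly := by
    intro z
    rw [hcp z]
    refine (congrArg (Polynomial.map (z.ofConv : A →+* k)) hM).trans ?_
    rw [Polynomial.map_map, show (z.ofConv : A →+* k).comp (algebraMap k A) = RingHom.id k from
      RingHom.ext fun c => z.ofConv.commutes c, Polynomial.map_id]
  have hy : LinearMap.charpoly (HopfRep.Comod.act k A V y) = (Polynomial.X - 1) ^ n := by
    rw [← LinearMap.charpoly_toMatrix (HopfRep.Comod.act k A V y) b, show y = (toConv y).ofConv from rfl, hact,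
      hall (toConv y), ← hall 1, hone, Matrix.charpoly_one, Fintype.card_fin]
  refine ⟨n, ?_⟩
  have h := LinearMap.aeval_self_charpoly (HopfRep.Comod.act k A V y)
  rw [hy, map_pow, map_sub, Polynomial.aeval_X, map_one] at h
  exact h

end Groth.Agent.UnipOne
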